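import Groth.Agent.RelPCFppf.Ring
import Groth.Agent.H9Misc.DRingPCModule

/-!
# Base change of relative pseudo-coherence along pseudo-coherent algebras
-/

set_option linter.style.haveILetI false
set_option backward.isDefEq.respectTransparency false
set_option backward.isDefEq.respectTransparency.types false

universe u

open CategoryTheory CategoryTheory.Limits MonoidalCategory

attribute [local instance] HasDerivedCategory.standard

namespace Groth.Agent.RelPCBase

open Groth.Agent.KFlatLib Groth.Agent.H9Misc Groth.Agent.H9Misc.DRingLTensor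
open Groth.Agent.RelPCFppf (test exists_triangle pc_of_vanishing pc_free flat_extendScalars)

variable {S Q : Type u} [CommRing S] [CommRing Q] {χ : Q →+* S} {CS : DRing.Cx S}

/-- The kernel of a finite presentation of a pseudo-coherent module is pseudo-coherent. -/
lemma pc'_ker {n : ℕ} {K : Type u} [AddCommGroup K] [Module S K] (π : (Fin n → S) →ₗ[S] K)
    (hπ : Function.Surjective π) (hK : DRing.IsPseudoCoherentModule' S K) :
    DRing.IsPseudoCoherentModule' S (LinearMap.ker π) := by
  let T : ShortComplex (ModuleCat.{u} S) := ShortComplex.mk (ModuleCat.ofHom (LinearMap.ker π).subtype)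
    (ModuleCat.ofHom π) (by ext x; exact x.2)
  have hT : T.ShortExact :=
    { exact := (ShortComplex.moduleCat_exact_iff T).2 fun x hx => ⟨⟨x, hx⟩, rfl⟩
      mono_f := (ModuleCat.mono_iff_injective _).2 Subtype.val_injective
      epi_g := (ModuleCat.epi_iff_surjective _).2 hπ }
  refine (DRingPC.pc'_iff _).2 fun m => ?_
  have := (Groth.Agent.S2067.result hT.singleTriangle hT.singleTriangle_distinguished (m - 1)).2.2
    (Triage.NoethPC.pc_of_free (A := S) (Fin n → S) _) ((DRingPC.pc'_iff _).1 hK (m - 1))
  rwa [sub_add_cancel] at this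

/-- The induction on the depth, for a pseudo-coherent module. -/
theorem pc_test (hf : DRing.TermwiseFlat CS) {b m : ℤ} (hb : DRing.VanishesAbove CS b)
    (h : DRing.IsPseudoCoherent Q m ((DRing.restrictD χ).obj (DerivedCategory.Q.obj CS))) :
    ∀ (k : ℕ) (m' : ℤ), b < m' + k → m ≤ m' → ∀ (K : Type u) [AddCommGroup K] [Module S K],
      DRing.IsPseudoCoherentModule' S K →
      DRing.IsPseudoCoherent Q m' (test χ CS (ModuleCat.of S K)) := by
  intro k
  induction k with
  | zero => exact fun m' hk _ K _ _ _ => pc_of_vanishing hb (by simpa using hk) _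
  | succ k ih =>
    intro m' hk hm K _ _ hK
    haveI := DRingPC.finite_of_pc ((DRingPC.pc'_iff _).1 hK 0)
    obtain ⟨n, π, hπ⟩ := Module.Finite.exists_fin' S K
    let T : ShortComplex (ModuleCat.{u} S) := ShortComplex.mk (ModuleCat.ofHom (LinearMap.ker π).subtype)
      (ModuleCat.ofHom π) (by ext x; exact x.2)
    have hT : T.ShortExact :=
      { exact := (ShortComplex.moduleCat_exact_iff T).2 fun x hx => ⟨⟨x, hx⟩, rfl⟩
        mono_f := (ModuleCat.mono_iff_injective _).2 Subtype.val_injective
        epi_g := (ModuleCat.epi_iff_surjective _).2 hπ }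
    obtain ⟨U, hU, h1, h2, h3⟩ := exists_triangle (χ := χ) hf T hT
    have hk' := ih (m' + 1) (by push_cast at hk; omega) (by omega) (LinearMap.ker π) (pc'_ker π hπ hK)
    have := (Groth.Agent.S2067.result U hU m').1 (h1 ▸ hk') (h2 ▸ DRingPC.mono hm (pc_free hf h n))
    rw [h3] at this
    exact this

section Main

open MvPolynomial

variable {R A B : Type u} [CommRing R] [CommRing A] [CommRing B] [Algebra R A] [Algebra A B] [Algebra R B]
  [IsScalarTower R A B]

/-- Base change along a relatively pseudo-coherent algebra. -/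
theorem rel_lbase [Algebra.FiniteType A B] (hB : DerCA.IsRelPseudoCoherentModuleAll A B B)
    [DRing.HasLBaseChange (algebraMap A B)]
    (N : Dual.D A) (m : ℤ) (h : DerCA.IsRelPseudoCoherent R A m N) :
    DerCA.IsRelPseudoCoherent R B m ((DRing.LBaseChange (algebraMap A B)).obj N) := by
  obtain ⟨n, α, hα, hN⟩ := h
  let a : MvPolynomial (Fin n) R →+* A := α
  obtain ⟨l, δ, hδ⟩ := DRingRelPC.exists_presentation A B
  obtain ⟨E, a₀, b₀, φ, hz, -, hi, -⟩ := id hN
  obtain ⟨b, hb₁, hb₂⟩ : ∃ b, b₀ ≤ b ∧ m ≤ b := ⟨max b₀ m, le_max_left _ _, le_max_right _ _⟩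
  haveI : N.IsLE b := (DerivedCategory.isLE_iff N b).2 fun i hi' => by
    haveI := hi i (by omega)
    have h0 : IsZero ((DerivedCategory.homologyFunctor _ i).obj (DRing.toD E)) :=
      IsZero.of_iso (ShortComplex.isZero_homology_of_isZero_X₂ _ (hz i (Or.inr (by omega))))
        ((DerivedCategory.homologyFunctorFactors _ i).app E)
    have h1 := (h0.of_iso (asIso ((DerivedCategory.homologyFunctor _ i).map φ)).symm).of_iso
      ((mapDCHomologyIso (ModuleCat.restrictScalars a) i).app N).symm
    haveI := ModuleCat.subsingleton_of_isZero h1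
    exact @ModuleCat.isZero_of_subsingleton A _ _ (show Subsingleton _ from this)
  obtain ⟨C₀, hC₀, ⟨eC₀⟩⟩ := DerivedCategory.exists_iso_Q_obj_of_isLE N b
  obtain ⟨C, θ, hCb, hC, -, hθ⟩ := TriCat.exists_quasiIso_left_resolution
    (fun X : ModuleCat.{u} A => Module.Projective A X)
    ⟨ModuleCat.of A PUnit.{u + 1}, ModuleCat.isZero_of_subsingleton _, inferInstance⟩
    (fun X => ⟨ModuleCat.of A (X →₀ A), ModuleCat.ofHom (Finsupp.linearCombination A id),
      inferInstance, (ModuleCat.epi_iff_surjective _).2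
        (Finsupp.linearCombination_id_surjective A X)⟩) C₀ b
  let eC : DerivedCategory.Q.obj C ≅ N := asIso (DerivedCategory.Q.map θ) ≪≫ eC₀.symm
  have hCv : DRing.VanishesAbove C b := fun i hi => C.isZero_of_isStrictlyLE b i hi
  have hKF : IsKF C := DRingComplTensor.isKF_of_projective hCv hC
  let S := MvPolynomial (Fin l) A
  let Q := MvPolynomial (Fin l) (MvPolynomial (Fin n) R)
  let χ : Q →+* S := MvPolynomial.map a
  let ι : A →+* S := algebraMap A S
  let CS : DRing.Cx S := (extC' ι).obj C
  have hfCS : DRing.TermwiseFlat CS := fun i => by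
    haveI := hC i
    haveI : Module.Flat A (C.X i) := Module.Flat.of_projective
    exact flat_extendScalars ι (C.X i)
  have hbCS : DRing.VanishesAbove CS b := fun i hi => (ModuleCat.extendScalars ι).map_isZero (hCv i hi)
  haveI := DRingLBase.hasLBaseChange ι
  have hpo : IsPushout (CommRingCat.ofHom (MvPolynomial.C (R := MvPolynomial (Fin n) R) (σ := Fin l)))
      (CommRingCat.ofHom a) (CommRingCat.ofHom χ) (CommRingCat.ofHom ι) := by
    letI := a.toAlgebra
    letI : Algebra Q S := MvPolynomial.algebraMvPolynomial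
    haveI : IsScalarTower (MvPolynomial (Fin n) R) Q S :=
      .of_algebraMap_eq fun r => (MvPolynomial.map_C _ r).symm
    exact CommRingCat.isPushout_iff_isPushout.2
      (inferInstance : Algebra.IsPushout (MvPolynomial (Fin n) R) Q A S)
  have hS : DRing.IsPseudoCoherent Q m ((DRing.restrictD χ).obj (DerivedCategory.Q.obj CS)) := by
    obtain ⟨eL⟩ := DRingLBase.nonempty_lbase_iso ι hKF
    refine DRingPC.of_iso ((DRing.restrictD χ).mapIso ((DRing.LBaseChange ι).mapIso eC.symm ≪≫ eL)) ?_
    exact (PerfGen7.pc_restrict_lbase hpo N m).1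
      ((RingHom.flat_algebraMap_iff (R := MvPolynomial (Fin n) R) (S := Q)).2 inferInstance) hN
  letI : Algebra S B := δ.toRingHom.toAlgebra
  have hδB : DRing.IsPseudoCoherentModule' S B := (DRingPC.pc'_iff _).2 fun i =>
    DRingPC.of_iso ((DerivedCategory.singleFunctor (ModuleCat.{u} S) 0).mapIso (DRingTorDescent.resBIso B))
      ((DRingRelPC.module_iff δ hδ B i).1 (hB i))
  have hB : DRing.IsPseudoCoherent Q m (test χ CS (ModuleCat.of S B)) :=
    pc_test hfCS hbCS hS (b + 1 - m).toNat m (by omega) le_rfl B hδB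
  let d : S →+* B := δ.toRingHom
  have hd : d.comp ι = algebraMap A B := δ.comp_algebraMap
  let η : ModuleCat.extendScalars (algebraMap A B) ⋙ ModuleCat.restrictScalars d ≅
      ModuleCat.extendScalars ι ⋙ tensorRight (DRingTorDescent.resB d) :=
    Functor.isoWhiskerRight (eqToIso (congrArg ModuleCat.extendScalars.{u, u, u} hd.symm) ≪≫
      ModuleCat.extendScalarsComp ι d) _ ≪≫ Functor.associator _ _ _ ≪≫
      Functor.isoWhiskerLeft _ (extendRestrictIso d ≪≫ BraidedCategory.tensorLeftIsoTensorRight _)
  obtain ⟨eB⟩ := DRingLBase.nonempty_lbase_iso (algebraMap A B) hKF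
  let tB : DRingTorDescent.resB d ≅ ModuleCat.of S B := DRingTorDescent.resBIso B
  let eT : (DRing.restrictD d).obj ((DRing.LBaseChange (algebraMap A B)).obj N) ≅
      DerivedCategory.Q.obj ((tensC (ModuleCat.of S B)).obj CS) :=
    (DRing.restrictD d).mapIso ((DRing.LBaseChange (algebraMap A B)).mapIso eC.symm ≪≫ eB) ≪≫
      (ModuleCat.restrictScalars d).mapDerivedCategoryFactors.app _ ≪≫
      DerivedCategory.Q.mapIso ((NatIso.mapHomologicalComplex η (ComplexShape.up ℤ)).app C ≪≫
        (NatIso.mapHomologicalComplex ((curriedTensor (ModuleCat.{u} S)).flip.mapIso tB) (ComplexShape.up ℤ)).app CS)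
  have hB' : DRing.IsPseudoCoherent Q m ((DRing.restrictD (d.comp χ)).obj ((DRing.LBaseChange (algebraMap A B)).obj N)) :=
    (DRingRelPC.pc_iff_twice χ d _ m).1 (DRingPC.of_iso ((DRing.restrictD χ).mapIso eT).symm hB)
  let γ : MvPolynomial (Fin n) R →ₐ[R] B := (IsScalarTower.toAlgHom R A B).comp α
  obtain ⟨β, σ, hσ, hβ⟩ := DRingRelPC.exists_stack γ fun i => δ (X i)
  have hχ : eval₂Hom (γ : MvPolynomial (Fin n) R →+* B) (fun i => δ (X i)) = d.comp χ :=
    MvPolynomial.ringHom_ext (fun r => by
      simp only [RingHom.comp_apply, χ, MvPolynomial.map_C, MvPolynomial.eval₂Hom_C]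
      exact (RingHom.congr_fun hd (a r)).symm.trans (congrArg d (MvPolynomial.map_C a r).symm)) fun i => by
      rw [RingHom.comp_apply, MvPolynomial.eval₂Hom_X']
      exact congrArg δ (MvPolynomial.map_X a i).symm
  rw [hχ] at hβ
  refine ⟨l + n, β, fun x => ?_, ?_⟩
  · obtain ⟨y, rfl⟩ := hδ x
    obtain ⟨z, rfl⟩ := MvPolynomial.map_surjective a hα y
    obtain ⟨w, rfl⟩ := hσ.2 z
    exact ⟨w, (RingHom.congr_fun hβ w).symm⟩
  · exact (DRingRelPC.pc_iff_comp (DRingRelPC.PCHom.of_bijective hσ) _ _ hβ _ m).1 hB'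

end Main

/-- Derived base change of a module along a flat map. -/
theorem nonempty_lbase_inD {A B : Type u} [CommRing A] [CommRing B] [Algebra A B] [Module.Flat A B]
    [DRing.HasLBaseChange (algebraMap A B)] (M : Type u) [AddCommGroup M] [Module A M] :
    Nonempty ((DRing.LBaseChange (algebraMap A B)).obj (Dual.inD A M) ≅ Dual.inD B (TensorProduct A B M)) := by
  have hφ : (algebraMap A B).Flat := RingHom.flat_algebraMap_iff.2 inferInstance
  let F := ModuleCat.extendScalars.{u, u, u} (algebraMap A B)
  haveI := ModuleCat.preservesFiniteLimits_extendScalars_of_flat hφ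
  haveI : PreservesFiniteColimits F := by
    haveI : F.IsLeftAdjoint := (ModuleCat.extendRestrictScalarsAdj (algebraMap A B)).isLeftAdjoint
    infer_instance
  let K₀ := DerivedCategory.Q.objPreimage (Dual.inD A M)
  let eK : DerivedCategory.Q.obj K₀ ≅ Dual.inD A M := DerivedCategory.Q.objObjPreimageIso _
  haveI := (ringCover A).quasiIso_ψ K₀
  haveI : IsIso (DerivedCategory.Q.map ((ringCover A).ψ.app K₀)) :=
    (DerivedCategory.isIso_Q_map_iff_quasiIso _ _).2 inferInstance
  let eP : DerivedCategory.Q.obj ((ringCover A).P.obj K₀) ≅ Dual.inD A M :=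
    asIso (DerivedCategory.Q.map ((ringCover A).ψ.app K₀)) ≪≫ eK
  obtain ⟨eL⟩ := DRingLBase.nonempty_lbase_iso (algebraMap A B) (kFlat_ringRes K₀)
  let l : (ModuleCat.restrictScalars (algebraMap A B)).obj (ModuleCat.of B B) ≃ₗ[A] B :=
    (DRingTorDescent.resBIso B).toLinearEquiv
  let c := TensorProduct.congr l (LinearEquiv.refl A M)
  let eF : F.obj (ModuleCat.of A M) ≅ ModuleCat.of B (TensorProduct A B M) :=
    LinearEquiv.toModuleIso (m₁ := (F.obj (ModuleCat.of A M)).isModule)
      { toFun := fun z => c z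
        invFun := fun z => c.symm z
        left_inv := fun z => c.symm_apply_apply z
        right_inv := fun z => c.apply_symm_apply z
        map_add' := fun x y => c.map_add x y
        map_smul' := fun b z => by
          induction z using TensorProduct.induction_on with
          | zero => exact (congrArg c (smul_zero _)).trans ((map_zero c).trans ((congrArg _ (map_zero c)).trans (smul_zero _)).symm)
          | add x y hx hy =>
            exact (congrArg c (smul_add _ _ _)).trans ((c.map_add _ _).trans ((congrArg₂ (· + ·) hx hy).trans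
              ((smul_add _ _ _).symm.trans (congrArg _ (c.map_add _ _).symm))))
          | tmul x y => rfl }
  exact ⟨(DRing.LBaseChange (algebraMap A B)).mapIso eP.symm ≪≫ eL ≪≫
    (F.mapDerivedCategoryFactors.app _).symm ≪≫ F.mapDerivedCategory.mapIso eP ≪≫
    (F.mapDerivedCategorySingleFunctor 0).app (ModuleCat.of A M) ≪≫
    (DerivedCategory.singleFunctor (ModuleCat.{u} B) 0).mapIso eF⟩

end Groth.Agent.RelPCBase
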